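import Mathlib

/-!
# The Sylow `3`-subgroups of `SL₂(F)` are abelian (helper858, S3831)
-/

set_option autoImplicit false

namespace Cfsg.Agent.H858.SN

open Subgroup

/-- matrices commuting with a non-scalar `2 × 2` matrix -/
theorem comm_two {F : Type*} [Field F] {z : Matrix (Fin 2) (Fin 2) F} (hz : ∀ a : F, z ≠ a • 1)
    {w : Matrix (Fin 2) (Fin 2) F} (hw : w * z = z * w) : ∃ a b : F, w = a • 1 + b • z := by
  have h00 := congrFun (congrFun hw 0) 0
  have h01 := congrFun (congrFun hw 0) 1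
  have h10 := congrFun (congrFun hw 1) 0
  simp only [Matrix.mul_apply, Fin.sum_univ_two] at h00 h01 h10
  have ext2 : ∀ a b : F, w 0 0 = a + b * z 0 0 → w 0 1 = b * z 0 1 → w 1 0 = b * z 1 0 →
      w 1 1 = a + b * z 1 1 → w = a • 1 + b • z := by
    intro a b e1 e2 e3 e4
    ext i j
    fin_cases i <;> fin_cases j <;> simp [e1, e2, e3, e4]
  by_cases hb : z 0 1 = 0
  · by_cases hc : z 1 0 = 0
    · have hd : z 1 1 - z 0 0 ≠ 0 := by
        intro h0
        apply hz (z 0 0)
        have h1 : z 1 1 = z 0 0 := sub_eq_zero.1 h0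
        ext i j
        fin_cases i <;> fin_cases j <;> simp [hb, hc, h1]
      have e1 : w 0 1 = 0 := by
        apply (mul_eq_zero.1 _).resolve_right hd
        rw [hb] at h01
        linear_combination h01
      have e2 : w 1 0 = 0 := by
        apply (mul_eq_zero.1 _).resolve_right hd
        rw [hc] at h10
        linear_combination -h10
      obtain ⟨b, hb'⟩ : ∃ b : F, b * (z 1 1 - z 0 0) = w 1 1 - w 0 0 :=
        ⟨(w 1 1 - w 0 0) / (z 1 1 - z 0 0), div_mul_cancel₀ _ hd⟩
      exact ⟨w 0 0 - b * z 0 0, b, ext2 _ _ (by ring) (by rw [e1, hb, mul_zero]) (by rw [e2, hc, mul_zero])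
        (by linear_combination -hb')⟩
    · obtain ⟨b, hb'⟩ : ∃ b : F, b * z 1 0 = w 1 0 := ⟨w 1 0 / z 1 0, div_mul_cancel₀ _ hc⟩
      refine ⟨w 0 0 - b * z 0 0, b, ext2 _ _ (by ring) ?_ hb'.symm ?_⟩
      · apply mul_right_cancel₀ hc
        rw [← hb'] at h00
        linear_combination h00
      · apply mul_right_cancel₀ hc
        rw [← hb'] at h10
        linear_combination h10
  · obtain ⟨b, hb'⟩ : ∃ b : F, b * z 0 1 = w 0 1 := ⟨w 0 1 / z 0 1, div_mul_cancel₀ _ hb⟩
    refine ⟨w 0 0 - b * z 0 0, b, ext2 _ _ (by ring) hb'.symm ?_ ?_⟩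
    · apply mul_right_cancel₀ hb
      rw [← hb'] at h00
      linear_combination -h00
    · apply mul_right_cancel₀ hb
      rw [← hb'] at h01
      linear_combination -h01

/-- the Sylow `3`-subgroups of `SL₂(F)` are abelian in characteristic not three -/
theorem sylow_comm_SL2 {F : Type*} [Field F] [Finite F] (P : Sylow 3 (Matrix.SpecialLinearGroup (Fin 2) F)) :
    IsMulCommutative (P : Subgroup (Matrix.SpecialLinearGroup (Fin 2) F)) := by
  have hf3 : Fact (Nat.Prime 3) := ⟨Nat.prime_three⟩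
  by_cases h1 : (P : Subgroup (Matrix.SpecialLinearGroup (Fin 2) F)) = ⊥
  · rw [h1]; infer_instance
  have hnt : Nontrivial (P : Subgroup (Matrix.SpecialLinearGroup (Fin 2) F)) :=
    (Subgroup.nontrivial_iff_ne_bot _).2 h1
  have hc := P.2.center_nontrivial
  obtain ⟨z, hz⟩ := exists_ne (1 : center (P : Subgroup (Matrix.SpecialLinearGroup (Fin 2) F)))
  have hzP := mem_center_iff.1 z.2
  set z0 : Matrix.SpecialLinearGroup (Fin 2) F := z.1.1 with hz0
  have hz01 : z0 ≠ 1 := fun h => hz (Subtype.ext (Subtype.ext h))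
  obtain ⟨k, hk⟩ := P.2 z.1
  have hk' : z0 ^ 3 ^ k = 1 := by rw [hz0, ← Subgroup.coe_pow, hk]; rfl
  have hns : ∀ a : F, (z0 : Matrix (Fin 2) (Fin 2) F) ≠ a • 1 := by
    intro a ha
    have hd : a ^ 2 = 1 := by
      have := z0.det_coe
      rw [ha, Matrix.det_smul, Matrix.det_one, mul_one, Fintype.card_fin] at this
      exact this
    have hp : a ^ 3 ^ k = 1 := by
      have h2 := congrArg (fun m : Matrix.SpecialLinearGroup (Fin 2) F => (m : Matrix (Fin 2) (Fin 2) F) 0 0) hk'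
      simp only [Matrix.SpecialLinearGroup.coe_pow, ha, smul_pow, one_pow] at h2
      simpa using h2
    have ha1 : a = 1 := by
      have h2 : orderOf a ∣ 2 := orderOf_dvd_of_pow_eq_one hd
      have h3 : orderOf a ∣ 3 ^ k := orderOf_dvd_of_pow_eq_one hp
      have h4 : Nat.Coprime 2 (3 ^ k) := Nat.Coprime.pow_right k (by norm_num)
      exact orderOf_eq_one_iff.1 (Nat.eq_one_of_dvd_coprimes h4 h2 h3)
    apply hz01
    apply Subtype.ext
    rw [ha, ha1, one_smul]
    rfl
  refine ⟨⟨fun x y => ?_⟩⟩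
  have hx : ((x : Matrix.SpecialLinearGroup (Fin 2) F) : Matrix (Fin 2) (Fin 2) F) * z0 = z0 * (x : Matrix.SpecialLinearGroup (Fin 2) F) :=
    congrArg (fun m : (P : Subgroup (Matrix.SpecialLinearGroup (Fin 2) F)) => ((m : Matrix.SpecialLinearGroup (Fin 2) F) : Matrix (Fin 2) (Fin 2) F)) (hzP x)
  have hy : ((y : Matrix.SpecialLinearGroup (Fin 2) F) : Matrix (Fin 2) (Fin 2) F) * z0 = z0 * (y : Matrix.SpecialLinearGroup (Fin 2) F) :=
    congrArg (fun m : (P : Subgroup (Matrix.SpecialLinearGroup (Fin 2) F)) => ((m : Matrix.SpecialLinearGroup (Fin 2) F) : Matrix (Fin 2) (Fin 2) F)) (hzP y)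
  obtain ⟨a, b, hx'⟩ := comm_two hns hx
  obtain ⟨c, d, hy'⟩ := comm_two hns hy
  apply Subtype.ext
  apply Subtype.ext
  change ((x : Matrix.SpecialLinearGroup (Fin 2) F) : Matrix (Fin 2) (Fin 2) F) * (y : Matrix.SpecialLinearGroup (Fin 2) F) =
    ((y : Matrix.SpecialLinearGroup (Fin 2) F) : Matrix (Fin 2) (Fin 2) F) * (x : Matrix.SpecialLinearGroup (Fin 2) F)
  rw [hx', hy']
  simp only [add_mul, mul_add, smul_mul_assoc, mul_smul_comm, one_mul, mul_one, smul_add, smul_smul]
  rw [mul_comm a c, mul_comm a d, mul_comm b c, mul_comm b d]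
  abel

end Cfsg.Agent.H858.SN
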